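import Mathlib
import Groth.Agent.Lib.Helper6.GLChar.GL

set_option linter.unusedSectionVars false
set_option linter.unusedVariables false
set_option autoImplicit false
set_option maxHeartbeats 400000

noncomputable section

namespace Groth.Agent.Lib.Helper6.GLChar

open Matrix LaurentPolynomial

universe u

theorem det_Dhom {n : ℕ} (B : Type u) [CommRing B] (k : Fin n) (x : Bˣ) :
    Matrix.GeneralLinearGroup.det (Dhom B k x) = x := by
  unfold Dhom
  rw [MonoidHom.comp_apply, det_diagU]
  exact Fintype.prod_pi_mulSingle' k x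

theorem T_injective (R : Type u) [CommRing R] [Nontrivial R] {a b : ℤ}
    (h : (T a : R[T;T⁻¹]) = T b) : a = b := by
  have h1 : (T a : R[T;T⁻¹]).coeff b = (T b : R[T;T⁻¹]).coeff b := by rw [h]
  have e1 : ∀ c : ℤ, (T c : R[T;T⁻¹]) = C 1 * T c := fun c => by rw [map_one, one_mul]
  rw [e1 a, e1 b, coeff_C_mul_T, coeff_C_mul_T, if_pos rfl] at h1
  by_contra hab
  rw [if_neg hab] at h1
  exact zero_ne_one h1

theorem prodGL_main (R : Type u) [CommRing R] [ConnectedSpace (PrimeSpectrum R)]
    (r : ℕ) (n : Fin r → ℕ) (hn : ∀ i, 0 < n i)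
    (α : ∀ (B : Type u) [CommRing B] [Algebra R B],
      (∀ i, Matrix.GeneralLinearGroup (Fin (n i)) B) →* Bˣ)
    (hα : ∀ (B C : Type u) [CommRing B] [Algebra R B] [CommRing C] [Algebra R C] (φ : B →ₐ[R] C)
      (s : ∀ i, Matrix.GeneralLinearGroup (Fin (n i)) B),
      α C (fun i => Matrix.GeneralLinearGroup.map φ.toRingHom (s i)) =
        Units.map (φ.toRingHom : B →* C) (α B s)) :
    ∃! m : Fin r → ℤ, ∀ (B : Type u) [CommRing B] [Algebra R B]
      (s : ∀ i, Matrix.GeneralLinearGroup (Fin (n i)) B),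
      α B s = ∏ i, Matrix.GeneralLinearGroup.det (s i) ^ (m i) := by
  classical
  haveI : Nontrivial R := by
    obtain ⟨x⟩ := (inferInstance : Nonempty (PrimeSpectrum R))
    by_contra h
    rw [not_nontrivial_iff_subsingleton] at h
    exact x.isPrime.ne_top (Subsingleton.elim _ _)
  have hconn := idem_trivial_of_connected R
  -- the natural characters
  let Φ : ∀ i : Fin r, NatChar R (n i) := fun i =>
    { β := fun B _ _ => (α B).comp
        (MonoidHom.mulSingle (fun j => Matrix.GeneralLinearGroup (Fin (n j)) B) i)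
      nat := by
        intro B C _ _ _ _ φ g
        show α C (Pi.mulSingle i (Matrix.GeneralLinearGroup.map φ.toRingHom g)) =
          Units.map (φ.toRingHom : B →* C) (α B (Pi.mulSingle i g))
        rw [← hα B C φ (Pi.mulSingle i g)]
        congr 1
        ext1 j
        by_cases hji : j = i
        · subst hji
          rw [Pi.mulSingle_eq_same, Pi.mulSingle_eq_same]
        · rw [Pi.mulSingle_eq_of_ne hji, Pi.mulSingle_eq_of_ne hji, map_one] }
  have hΦ : ∀ i, ∃ m : ℤ, ∀ (B : Type u) [CommRing B] [Algebra R B] (g : GLn (n i) B),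
      (Φ i).β B g = (Matrix.GeneralLinearGroup.det g) ^ m := fun i =>
    (Φ i).eq_det_pow ⟨0, hn i⟩ hconn
  choose m hm using hΦ
  have hformula : ∀ (B : Type u) [CommRing B] [Algebra R B]
      (s : ∀ i, Matrix.GeneralLinearGroup (Fin (n i)) B),
      α B s = ∏ i, Matrix.GeneralLinearGroup.det (s i) ^ (m i) := by
    intro B _ _ s
    conv_lhs => rw [← Finset.noncommProd_mulSingle s]
    rw [Finset.map_noncommProd, Finset.noncommProd_eq_prod]
    refine Finset.prod_congr rfl fun i _ => ?_
    exact hm i B (s i)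
  refine ⟨m, hformula, ?_⟩
  intro m' hm'
  funext i
  -- test on the Laurent polynomial ring
  let B := R[T;T⁻¹]
  let s : ∀ j, Matrix.GeneralLinearGroup (Fin (n j)) B :=
    Pi.mulSingle i (Dhom B ⟨0, hn i⟩ (Tu R 1))
  have hs : ∀ (mm : Fin r → ℤ), ∏ j, Matrix.GeneralLinearGroup.det (s j) ^ (mm j) =
      Tu R (mm i) := by
    intro mm
    rw [Finset.prod_eq_single i]
    · show Matrix.GeneralLinearGroup.det ((Pi.mulSingle i (Dhom B ⟨0, hn i⟩ (Tu R 1)) :
        ∀ j, Matrix.GeneralLinearGroup (Fin (n j)) B) i) ^ (mm i) = _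
      rw [Pi.mulSingle_eq_same, det_Dhom, Tu_zpow]
    · intro j _ hji
      show Matrix.GeneralLinearGroup.det ((Pi.mulSingle i (Dhom B ⟨0, hn i⟩ (Tu R 1)) :
        ∀ j, Matrix.GeneralLinearGroup (Fin (n j)) B) j) ^ (mm j) = _
      rw [Pi.mulSingle_eq_of_ne hji, map_one, _root_.one_zpow]
    · intro h; exact absurd (Finset.mem_univ i) h
  have h1 := hformula B s
  have h2 := hm' B s
  rw [hs] at h1 h2
  have h3 : Tu R (m' i) = Tu R (m i) := by rw [← h1, ← h2]
  have h4 := congrArg Units.val h3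
  rw [Tu_val, Tu_val] at h4
  exact T_injective R h4

end Groth.Agent.Lib.Helper6.GLChar
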